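import Mathlib
import Cfsg.Agent.H233.B3.RowChar
import Cfsg.Agent.ClassicalGeometry.AutPSL.SylowU
import Cfsg.Agent.H199.PslAut
import Cfsg.Agent.H126.SepMain
import Cfsg.Agent.LieClassical.SLGen
import Cfsg.Agent.Lib.FieldAutCard
import Cfsg.Agent.S2601

/-!
# S5761, row B5: `Row3 2 (PSL_n(2^f))`, `n ≥ 3` (task 2824, poster helper233)
-/

set_option autoImplicit false

namespace Cfsg.Agent.H973.B3

open Subgroup Matrix
open Cfsg.Agent.H233.B3
open Cfsg.Agent.ClassicalGeometry.AutPSL.Root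
open Cfsg.Agent.ClassicalGeometry.AutPSL.Auto
open Cfsg.Agent.ClassicalGeometry.AutPSL.Main
open Cfsg.Agent.ClassicalGeometry.AutPSL.SylowU
open Cfsg.Agent.H199.PslAut (phi phi_pr)

universe u

variable {F : Type u} [Field F] {n : ℕ}

/-- `PSL_n(F)`, `n ≥ 3`, is not commutative -/
theorem not_comm (hn : 3 ≤ n) : ¬ IsMulCommutative (ProjectiveSpecialLinearGroup (Fin n) F) := by
  intro hc
  have h3 : 3 ≤ Fintype.card (Fin n) := by rw [Fintype.card_fin]; exact hn
  have h0 := LieClassical.SLGen.psl_isSimpleGroup (F := F) h3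
  have h1 : Group.IsPerfect (SpecialLinearGroup (Fin n) F) := ⟨LieClassical.SLGen.commutator_eq_top h3⟩
  have h2 : Group.IsPerfect (ProjectiveSpecialLinearGroup (Fin n) F) := inferInstance
  have h4 : commutator (ProjectiveSpecialLinearGroup (Fin n) F) = ⊥ := by
    rw [commutator_def, Subgroup.commutator_eq_bot_iff_le_centralizer]
    intro x _ y _
    exact hc.is_comm.comm y x
  have h5 := h2.commutator_eq_top
  rw [h4] at h5
  obtain ⟨x, y, hxy⟩ := h0.exists_pair_ne
  exact hxy ((Subgroup.mem_bot.1 (h5 ▸ Subgroup.mem_top x)).trans (Subgroup.mem_bot.1 (h5 ▸ Subgroup.mem_top y)).symm)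

/-- the longest element of the Weyl group as a permutation matrix, characteristic two -/
noncomputable def KK (n : ℕ) (F : Type u) [Field F] [CharP F 2] : SpecialLinearGroup (Fin n) F :=
  ⟨(Fin.revPerm : Equiv.Perm (Fin n)).permMatrix F, by
    rw [Matrix.det_permutation]
    rcases Int.units_eq_one_or (Equiv.Perm.sign (Fin.revPerm : Equiv.Perm (Fin n))) with h | h
    · rw [h]; simp
    · rw [h]
      simp only [Units.val_neg, Units.val_one, Int.cast_neg, Int.cast_one]
      exact CharTwo.neg_eq 1⟩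

theorem KK_mul [CharP F 2] (g : SpecialLinearGroup (Fin n) F) (i j : Fin n) :
    (KK n F * g).1 i j = g.1 (Fin.rev i) j := by
  have h : ((Fin.revPerm : Equiv.Perm (Fin n)).toPEquiv.toMatrix : Matrix (Fin n) (Fin n) F) * g.1 =
      g.1.submatrix Fin.revPerm id := PEquiv.toMatrix_toPEquiv_mul _ _
  exact congrFun (congrFun h i) j

theorem mul_KK [CharP F 2] (g : SpecialLinearGroup (Fin n) F) (i j : Fin n) :
    (g * KK n F).1 i j = g.1 i (Fin.rev j) := by
  have h : g.1 * ((Fin.revPerm : Equiv.Perm (Fin n)).toPEquiv.toMatrix : Matrix (Fin n) (Fin n) F) =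
      g.1.submatrix id (Fin.revPerm : Equiv.Perm (Fin n)).symm := PEquiv.mul_toMatrix_toPEquiv _ _
  exact congrFun (congrFun h i) j

theorem KK_sq [CharP F 2] : KK n F * KK n F = 1 := by
  have h : (KK n F).1 * (KK n F).1 = (KK n F * KK n F).1 := rfl
  apply Subtype.ext
  ext i j
  rw [KK_mul]
  have h1 : (KK n F).1 (Fin.rev i) j = (KK n F * 1).1 (Fin.rev i) j := by rw [mul_one]
  rw [h1, KK_mul, Fin.rev_rev]

theorem KK_inv [CharP F 2] : (KK n F)⁻¹ = KK n F := inv_eq_of_mul_eq_one_left KK_sq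

theorem KK_conj [CharP F 2] (g : SpecialLinearGroup (Fin n) F) (i j : Fin n) :
    (KK n F * g * (KK n F)⁻¹).1 i j = g.1 (Fin.rev i) (Fin.rev j) := by
  rw [KK_inv, mul_KK, KK_mul]

/-- the torus element -/
noncomputable def DD0 (hn : 3 ≤ n) (a : Fˣ) : SpecialLinearGroup (Fin n) F :=
  SpecialLinearGroup.diag2n (show (⟨0, by omega⟩ : Fin n) ≠ ⟨1, by omega⟩ by simp) (a : F) a.ne_zero

theorem DD0_coe (hn : 3 ≤ n) (a : Fˣ) : ((DD0 hn a : SpecialLinearGroup (Fin n) F) : Matrix (Fin n) (Fin n) F) =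
    diagonal fun k => if k = ⟨0, by omega⟩ then (a : F) else if k = ⟨1, by omega⟩ then (a : F)⁻¹ else 1 := rfl

variable [Finite F]

/-- **separation**: `D (k g k⁻¹) D'⁻¹` upper unitriangular up to scalars, `D`, `D'` diagonal -/
theorem sep [CharP F 2] {g h A B : SpecialLinearGroup (Fin n) F} (hg : g ∈ upper n F) (hh : h ∈ upper n F)
    {d e : Fin n → F} (hA : A.1 = diagonal d) (hB : B.1 = diagonal e)
    (heq : pr (A * (KK n F * g * (KK n F)⁻¹) * B⁻¹) = pr h) : g = 1 := by
  have hd : ∀ i, d i ≠ 0 := by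
    intro i h0
    have h1 := A.2
    rw [hA, det_diagonal] at h1
    rw [Finset.prod_eq_zero (Finset.mem_univ i) h0] at h1
    exact zero_ne_one h1
  have h1 : pr (A * (KK n F * g * (KK n F)⁻¹)) = pr (h * B) := by
    rw [map_mul (pr) h B, ← heq, ← map_mul, inv_mul_cancel_right]
  obtain ⟨c, hc⟩ := exists_smul_of_pr_eq h1
  have h2 : ∀ i j, h.1 i j * e j = c * (d i * g.1 (Fin.rev i) (Fin.rev j)) := by
    intro i j
    have h3 : (h * B).1 i j = (c • (A * (KK n F * g * (KK n F)⁻¹)).1) i j := by rw [← hc]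
    have h4 : (h * B).1 i j = h.1 i j * e j := by
      change (h.1 * B.1) i j = _
      rw [hB, mul_diagonal]
    have h5 : (A * (KK n F * g * (KK n F)⁻¹)).1 i j = d i * g.1 (Fin.rev i) (Fin.rev j) := by
      change (A.1 * (KK n F * g * (KK n F)⁻¹).1) i j = _
      rw [hA, diagonal_mul, KK_conj]
    rw [← h4, h3, Matrix.smul_apply, h5, smul_eq_mul]
  rw [mem_upper] at hg hh
  have hB0 : ∀ j, e j ≠ 0 := by
    intro j h0
    have h1 := B.2
    rw [hB, det_diagonal] at h1
    rw [Finset.prod_eq_zero (Finset.mem_univ j) h0] at h1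
    exact zero_ne_one h1
  apply Subtype.ext
  ext i j
  rcases le_or_gt j i with hij | hij
  · rw [hg i j hij]
    change _ = (1 : Matrix (Fin n) (Fin n) F) i j
    rw [one_apply]
  · have h3 := h2 (Fin.rev i) (Fin.rev j)
    rw [Fin.rev_rev, Fin.rev_rev, hh _ _ (Fin.rev_le_rev.2 hij.le)] at h3
    have hne : Fin.rev i ≠ Fin.rev j := fun h => hij.ne (Fin.rev_injective h)
    rw [if_neg hne, zero_mul] at h3
    have hc0 : c ≠ 0 := by
      rintro rfl
      have h4 := h2 i i
      rw [hh i i le_rfl, if_pos rfl, zero_mul, one_mul] at h4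
      exact hB0 i h4
    have h5 : g.1 i j = 0 := by
      rcases mul_eq_zero.1 h3.symm with h6 | h6
      · exact absurd h6 hc0
      · rcases mul_eq_zero.1 h6 with h7 | h7
        · exact absurd h7 (hd _)
        · exact h7
    change g.1 i j = (1 : Matrix (Fin n) (Fin n) F) i j
    rw [h5, one_apply_ne hij.ne]

omit [Finite F] in
/-- the characteristic -/
theorem char_eq [Fintype F] {f c : ℕ} [CharP F c] (hF : Fintype.card F = 2 ^ f) : c = 2 := by
  obtain ⟨m, hp, hc⟩ := FiniteField.card F c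
  have h1 : c ∣ 2 ^ f := by
    rw [← hF, hc]
    exact dvd_pow_self c m.ne_zero
  exact (Nat.prime_dvd_prime_iff_eq hp Nat.prime_two).1 (hp.dvd_of_dvd_pow h1)

/-- **Row B5.** -/
theorem row3_psl {F : Type u} [Field F] [Fintype F] {f n : ℕ} (hf : 1 ≤ f) (hF : Fintype.card F = 2 ^ f)
    (hn : 3 ≤ n) : Row3 2 (ProjectiveSpecialLinearGroup (Fin n) F) := by
  classical
  have : Fact (Nat.Prime 2) := ⟨Nat.prime_two⟩
  have hchar : CharP F 2 := by
    obtain ⟨c, hc⟩ := CharP.exists F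
    have : c = 2 := char_eq hF
    exact this ▸ hc
  have hs : IsSimpleGroup (ProjectiveSpecialLinearGroup (Fin n) F) :=
    LieClassical.SLGen.psl_isSimpleGroup (by rw [Fintype.card_fin]; exact hn)
  obtain ⟨S, hS⟩ := exists_sylow (F := F) n 2
  have hU : IsPGroup 2 ↥((upper n F).map pr) := hS ▸ S.isPGroup'
  have hUi : ¬ 2 ∣ ((upper n F).map (pr (F := F))).index := by
    rw [← hS]
    exact S.not_dvd_index
  have hRA : Nat.card (F ≃+* F) = f := Cfsg.Agent.Lib.FieldAutCard.card_ringAut (by omega) hF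
  have hfinR : Finite (F ≃+* F) := Finite.of_injective (fun σ : F ≃+* F => (σ : F → F)) DFunLike.coe_injective
  obtain ⟨a, ha⟩ := Cfsg.Agent.H126.SepMain.exists_gen (F := F)
  have hfldD : ∀ γ : F ≃+* F, (fld γ (DD0 hn a)).1 =
      diagonal fun k => if k = ⟨0, by omega⟩ then γ a else if k = ⟨1, by omega⟩ then γ (a : F)⁻¹ else 1 := by
    intro γ
    ext i j
    rw [coe_fld_apply, DD0_coe, diagonal_apply, diagonal_apply]
    split_ifs <;> simp
  refine row3_of_frame (not_comm hn) (U := (upper n F).map pr) hU hUi (phi n F) ?_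
    (m := Nat.gcd n (2 ^ f - 1)) ?_ ?_ (pr (KK n F)) (pr (DD0 hn a)) ?_ ?_ ?_ ?_
  · rintro γ _ ⟨g, hg, rfl⟩
    refine ⟨fld γ g, ?_, rfl⟩
    have hg' := mem_upper.1 hg
    refine mem_upper.2 fun i j hij => ?_
    rw [coe_fld_apply, hg' i j hij]
    split_ifs <;> simp
  · intro h
    have h1 := h.trans (Nat.gcd_dvd_right _ _)
    have h2 : 2 ∣ 2 ^ f := dvd_pow_self 2 (by omega)
    have h3 : 1 ≤ 2 ^ f := Nat.one_le_two_pow
    omega
  · rw [hRA]
    obtain ⟨φ, hφ, -, hk⟩ := Cfsg.Agent.S2601.result (F := F) (p := 2) hf hF hn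
    have : NeZero f := ⟨by omega⟩
    have h1 := Subgroup.card_mul_index φ.ker
    have h2 : φ.ker.index = 2 * f := by
      rw [Subgroup.index_ker, MonoidHom.range_eq_top.2 hφ, Subgroup.card_top]
      rw [Nat.card_congr Multiplicative.toAdd, Nat.card_prod, Nat.card_zmod, Nat.card_zmod, mul_comm]
    rw [hk, h2] at h1
    rw [← h1]
    exact ⟨1, by ring⟩
  · intro γ
    rw [phi_pr]
    congr 1
    apply Subtype.ext
    ext i j
    rw [coe_fld_apply]
    change γ (((Fin.revPerm : Equiv.Perm (Fin n)).toPEquiv.toMatrix : Matrix (Fin n) (Fin n) F) i j) =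
      ((Fin.revPerm : Equiv.Perm (Fin n)).toPEquiv.toMatrix : Matrix (Fin n) (Fin n) F) i j
    rw [PEquiv.toMatrix_apply]
    split_ifs <;> simp
  · rintro _ ⟨g, hg, rfl⟩ ⟨h, hh, he⟩
    have h1 : pr ((1 : SpecialLinearGroup (Fin n) F) * (KK n F * g * (KK n F)⁻¹) * (1 : SpecialLinearGroup (Fin n) F)⁻¹) =
        pr h := by
      rw [he, one_mul, inv_one, mul_one, map_mul, map_mul, map_inv]
    rw [sep hg hh (d := fun _ => 1) (e := fun _ => 1) (A := 1) (B := 1) diagonal_one.symm diagonal_one.symm h1, map_one]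
  · rintro _ ⟨g, hg, rfl⟩ γ ⟨h, hh, he⟩
    have h1 : pr (DD0 hn a * (KK n F * g * (KK n F)⁻¹) * (fld γ (DD0 hn a))⁻¹) = pr h := by
      rw [he, map_mul, map_mul, map_mul, map_mul, map_inv, map_inv, phi_pr]
    rw [sep hg hh (DD0_coe hn a) (hfldD γ) h1, map_one]
  · rintro γ - ⟨h, hh, he⟩
    have h1 : pr (h * fld γ (DD0 hn a)) = pr (DD0 hn a) := by
      rw [map_mul, he, phi_pr, inv_mul_cancel_right]
    obtain ⟨c, hc⟩ := exists_smul_of_pr_eq h1
    have hh' := mem_upper.1 hh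
    have h2 : ∀ i : Fin n, (DD0 hn a).1 i i = c * (fld γ (DD0 hn a)).1 i i := by
      intro i
      have h3 : (DD0 hn a).1 i i = (c • (h * fld γ (DD0 hn a)).1) i i := by rw [← hc]
      have h4 : (h * fld γ (DD0 hn a)).1 i i = (fld γ (DD0 hn a)).1 i i := by
        change (h.1 * (fld γ (DD0 hn a)).1) i i = _
        rw [hfldD, mul_diagonal, hh' i i le_rfl, if_pos rfl, one_mul, diagonal_apply_eq]
      rw [h3, Matrix.smul_apply, h4, smul_eq_mul]
    have h3 := h2 ⟨2, by omega⟩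
    have e1 : ¬ ((⟨2, by omega⟩ : Fin n) = ⟨0, by omega⟩) := by simp
    have e2 : ¬ ((⟨2, by omega⟩ : Fin n) = ⟨1, by omega⟩) := by simp
    rw [hfldD, DD0_coe, diagonal_apply_eq, diagonal_apply_eq] at h3
    simp only [if_neg e1, if_neg e2, mul_one] at h3
    have h4 := h2 ⟨0, by omega⟩
    rw [hfldD, DD0_coe, diagonal_apply_eq, diagonal_apply_eq, if_pos rfl, if_pos rfl, ← h3, one_mul] at h4
    exact ha γ h4.symm

end Cfsg.Agent.H973.B3
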